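import Groth.Agent.AlgSpLib.FppfLocal
import Groth.Agent.AlgSpLib.FppfEpi
import Groth.Agent.GrpdLib.RepHom
import Groth.Prelude.Def_AlgGrp

/-! # Faithfully flat homomorphisms = fppf epimorphisms with flat kernel -/

set_option autoImplicit false
set_option backward.isDefEq.respectTransparency.types false

universe u

open CategoryTheory CategoryTheory.Limits MonoidalCategory CartesianMonoidalCategory MonObj GrpObj AlgebraicGeometry

namespace Groth.Agent.KerFlat8

variable {S : Scheme.{u}} {G H N : Over S} [GrpObj G] [GrpObj H] {f : G ⟶ H} [IsMonHom f] {i : N ⟶ G}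

/-- a section of `f` over `c` identifies the base change of `f` with the kernel -/
theorem isPullback_mul (hi : AlgGrp.IsKernel i f) {W : Over S} {c : W ⟶ H} (g : W ⟶ G) (hg : g ≫ f = c) :
    IsPullback ((fst N W ≫ i) * (snd N W ≫ g)) (snd N W) f c := by
  have hk : ∀ {T : Over S} (n : T ⟶ N), n ≫ i ≫ f = 1 := fun {T} n => by
    rw [hi.w, ← Category.assoc, MonObj.one_eq_one, MonObj.comp_one]
  refine IsPullback.of_isLimit' ⟨?_⟩ (PullbackCone.IsLimit.mk _
    (fun s => lift (hi.lift (s.fst * (s.snd ≫ g)⁻¹) (toUnit _) ?_) s.snd) (fun s => ?_) (fun s => ?_)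
    fun s m hm₁ hm₂ => ?_)
  · rw [MonObj.mul_comp, Category.assoc, Category.assoc, hk, _root_.one_mul, hg]
  · rw [MonObj.mul_comp, GrpObj.inv_comp, Category.assoc, hg, s.condition, _root_.mul_inv_cancel, MonObj.one_eq_one,
      MonObj.comp_one]
  · rw [MonObj.comp_mul, lift_fst_assoc, lift_snd_assoc, hi.lift_fst, inv_mul_cancel_right]
  · rw [lift_snd]
  · refine CartesianMonoidalCategory.hom_ext _ _ ?_ (by rw [lift_snd]; exact hm₂)
    refine hi.hom_ext ?_ (toUnit_unique _ _)
    rw [MonObj.comp_mul, ← Category.assoc, ← Category.assoc, hm₂] at hm₁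
    rw [lift_fst, hi.lift_fst, ← hm₁, mul_inv_cancel_right, Category.assoc]

/-- the base change of `f` to a scheme with a lift is flat and surjective -/
theorem flat_surjective_snd (hi : AlgGrp.IsKernel i f) [Flat N.hom] {W : Over S} {c : W ⟶ H} (g : W ⟶ G)
    (hg : g ≫ f = c) : Flat (pullback.snd f.left c.left) ∧ Surjective (pullback.snd f.left c.left) := by
  have h := (isPullback_mul hi g hg).map (Over.forget S)
  have he : h.isoPullback.hom ≫ pullback.snd f.left c.left = (snd N W).left := h.isoPullback_hom_snd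
  have hsnd : (snd N W).left = pullback.snd N.hom W.hom := rfl
  rw [hsnd] at he
  let z : (𝟙_ (Over S)) ⟶ N := hi.lift η[G] (𝟙 _) (by rw [IsMonHom.one_hom, Category.id_comp])
  haveI : Surjective N.hom := ⟨fun s => ⟨z.left s, by
    rw [← Scheme.Hom.comp_apply]
    exact congr($(Over.w z).base s)⟩⟩
  haveI : Flat (pullback.snd N.hom W.hom) := MorphismProperty.pullback_snd _ _ inferInstance
  haveI : Surjective (pullback.snd N.hom W.hom) := MorphismProperty.pullback_snd _ _ inferInstance
  constructor
  · exact (MorphismProperty.cancel_left_of_respectsIso @Flat h.isoPullback.hom _).1 (by rw [he]; exact MorphismProperty.pullback_snd _ _ ‹Flat N.hom›)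
  · exact (MorphismProperty.cancel_left_of_respectsIso @Surjective h.isoPullback.hom _).1 (by rw [he]; exact MorphismProperty.pullback_snd _ _ ‹Surjective N.hom›)

theorem exists_lift (he : Epi (QuotSh.repMap Scheme.fppfPrecoverage f)) (x : H.left) :
    ∃ (W : Over S) (c : W ⟶ H) (g : W ⟶ G), Flat c.left ∧ LocallyOfFinitePresentation c.left ∧
      x ∈ Set.range c.left ∧ g ≫ f = c := by
  haveI : Epi ((AlgSp.yon S).map f) := by
    have h := GrpdLib.RepHom.map_comp_repIso f
    have e : (AlgSp.yon S).map f = (QuotSh.repIsoUliftYoneda Scheme.fppfPrecoverage G).inv ≫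
        QuotSh.repMap Scheme.fppfPrecoverage f ≫ (QuotSh.repIsoUliftYoneda Scheme.fppfPrecoverage H).hom := by
      rw [h, Iso.inv_hom_id_assoc]
    rw [e]
    infer_instance
  obtain ⟨W, c, hc₁, hc₂, hx, t, ht⟩ := AlgSpLib.exists_fppf_lift ((AlgSp.yon S).map f)
    ((Sheaf.isLocallySurjective_iff_epi _).2 inferInstance) (𝟙 _) x
  obtain ⟨g, rfl⟩ := (AlgSp.yon S).map_surjective t
  refine ⟨W, c, g, hc₁, hc₂, hx, (AlgSp.yon S).map_injective ?_⟩
  rw [Functor.map_comp, ht, Category.comp_id]

theorem flat_surjective_of_epi (hi : AlgGrp.IsKernel i f) [Flat N.hom]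
    (he : Epi (QuotSh.repMap Scheme.fppfPrecoverage f)) : Flat f.left ∧ Surjective f.left := by
  choose W c g hc₁ hc₂ hx hg using fun x => exists_lift (f := f) he x
  have hbc := fun x => flat_surjective_snd hi (g x) (hg x)
  constructor
  · let 𝒰 : Precoverage.ZeroHypercover.{u} Scheme.fppfPrecoverage H.left :=
      { I₀ := H.left
        X := fun x => (W x).left
        f := fun x => (c x).left
        mem₀ := (Scheme.presieve₀_mem_precoverage_iff (P := @Flat ⊓ @LocallyOfFinitePresentation) _).2
          ⟨fun y => ⟨y, hx y⟩, fun x => ⟨hc₁ x, hc₂ x⟩⟩ }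
    exact MorphismProperty.IsLocalAtTarget.of_zeroHypercover (P := @Flat) 𝒰 fun x => (hbc x).1
  · refine ⟨fun y => ?_⟩
    obtain ⟨w, hw⟩ := hx y
    haveI := (hbc y).2
    obtain ⟨q, hq⟩ := Scheme.Hom.surjective (pullback.snd f.left (c y).left) w
    exact ⟨pullback.fst f.left (c y).left q, by
      rw [← Scheme.Hom.comp_apply, pullback.condition, Scheme.Hom.comp_apply, hq, hw]⟩

theorem epi_and_flat_of_flat_surjective [LocallyOfFinitePresentation G.hom] [LocallyOfFinitePresentation H.hom]
    (hi : AlgGrp.IsKernel i f) [Flat f.left] [Surjective f.left] :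
    Epi (QuotSh.repMap Scheme.fppfPrecoverage f) ∧ Flat N.hom := by
  haveI : LocallyOfFinitePresentation (f.left ≫ H.hom) := by rw [Over.w]; infer_instance
  haveI : LocallyOfFinitePresentation f.left := EGA43.Limit.locallyOfFinitePresentation_of_comp f.left H.hom
  refine ⟨(GrpdLib.RepHom.exists_desc f).1, ?_⟩
  have h : IsPullback i.left (toUnit N).left f.left η[H].left := hi.map (Over.forget S)
  have : Flat (toUnit N).left := MorphismProperty.of_isPullback h inferInstance
  rw [← Over.w (toUnit N)]
  exact MorphismProperty.comp_mem _ _ _ this (inferInstanceAs (Flat (𝟙 S)))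

end Groth.Agent.KerFlat8
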